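import Cfsg.Agent.Lib.Helper23.OHyp.Defs

/-!
# OHYP (S5992) package [DIV]
-/

set_option autoImplicit false

namespace Cfsg.Agent.Lib.Helper84.OHyp

open Cfsg.Agent.Lib.Helper23.OHyp Matrix

universe u

theorem ordI_pos {q r : ℕ} (hr : r.Prime) (hq : ¬ r ∣ q) : 0 < ordI q r := by
  haveI : Fact r.Prime := ⟨hr⟩
  unfold ordI
  rw [orderOf_pos_iff]
  have hne : ((q : ℕ) : ZMod r) ≠ 0 := by
    rw [Ne, ZMod.natCast_eq_zero_iff]
    exact hq
  exact isOfFinOrder_iff_pow_eq_one.mpr
    ⟨r - 1, Nat.sub_pos_of_lt hr.one_lt, ZMod.pow_card_sub_one_eq_one hne⟩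

theorem cc_even (q r : ℕ) : Even (cc q r) := by
  unfold cc
  split_ifs with h
  · exact h
  · exact even_two_mul _

theorem cc_pos {q r : ℕ} (hr : r.Prime) (hq : ¬ r ∣ q) : 0 < cc q r := by
  have := ordI_pos hr hq
  unfold cc
  split_ifs <;> omega

theorem cc_eq_of_even {q r : ℕ} (h : Even (ordI q r)) : cc q r = ordI q r := by
  unfold cc
  rw [if_pos h]

theorem pkgDiv_of (hB : PkgBlk.{u}) (hP : PkgPerp.{u}) (hS : PkgSum.{u}) : PkgDiv.{u} := by
  intro F _ _ ι _ _ Q r x hstd
  classical
  have hi0 : 0 < ordI (Fintype.card F) r := ordI_pos hstd.prime hstd.ndvd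
  have hceven : Even (cc (Fintype.card F) r) := cc_even _ _
  have hc0 : 0 < cc (Fintype.card F) r := cc_pos hstd.prime hstd.ndvd
  have hdet : IsUnit x.det := by
    have h1 : x.det ^ r = 1 := by rw [← Matrix.det_pow, hstd.pow, Matrix.det_one]
    exact IsUnit.of_pow_eq_one h1 hstd.prime.ne_zero
  intro W
  induction' hn : Module.finrank F W using Nat.strong_induction_on with n ih generalizing W
  intro hWm hWi hWn
  by_cases hbot : W = ⊥
  · subst hbot
    have h0 : n = 0 := by rw [← hn]; exact finrank_bot F (ι → F)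
    subst h0
    refine ⟨dvd_zero _, ?_⟩
    constructor
    · intro _
      right
      rw [Nat.zero_div]
      exact Even.zero
    · intro _
      refine ⟨⊥, le_refl _, ?_, ?_⟩
      · intro w hw
        rw [Submodule.mem_bot] at hw
        rw [hw]
        have := hstd.nondeg.smul 0 0
        rw [zero_smul] at this
        rw [this]; ring
      · rw [finrank_bot]
  · obtain ⟨D, hDW, hDi, hDn, hDdim, hDplus⟩ := hB F ι Q r x hstd W hWm hWi hWn hbot
    obtain ⟨W', hW'W, hW'i, hW'n, hperp, hsup, hdim⟩ :=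
      hP F ι Q hstd.nondeg x hstd.isom hdet W D hDW hWi hDi hWn hDn
    have hnW : n = cc (Fintype.card F) r + Module.finrank F W' := by
      rw [← hn, hdim, hDdim]
    have hlt : Module.finrank F W' < n := by omega
    obtain ⟨ih1, ih2⟩ := ih _ hlt W' rfl (hW'W.trans hWm) hW'i hW'n
    obtain ⟨-, -, hs3⟩ := hS F ι Q hstd.nondeg hstd.two D W' hDn hW'n hperp
    have hDe : Even (Module.finrank F D) := by rw [hDdim]; exact hceven
    have hW'e : Even (Module.finrank F W') :=
      even_iff_two_dvd.mpr ((even_iff_two_dvd.mp hceven).trans ih1)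
    have hplus := hs3 hDe hW'e
    rw [hsup] at hplus
    refine ⟨?_, ?_⟩
    · rw [hnW]; exact dvd_add (dvd_refl _) ih1
    · rw [hplus, hDplus, ih2]
      by_cases hodd : Odd (ordI (Fintype.card F) r)
      · simp [hodd]
      · have heven : Even (ordI (Fintype.card F) r) := Nat.not_odd_iff_even.mp hodd
        have hci : cc (Fintype.card F) r = ordI (Fintype.card F) r := cc_eq_of_even heven
        obtain ⟨t, ht⟩ := ih1
        have h1 : Module.finrank F W' / ordI (Fintype.card F) r = t := by
          rw [ht, hci]; exact Nat.mul_div_cancel_left _ hi0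
        have h2 : n / ordI (Fintype.card F) r = t + 1 := by
          rw [hnW, ht, hci, Nat.add_mul_div_left _ _ hi0, Nat.div_self hi0]; ring
        rw [h1, h2, Nat.even_add_one]
        tauto

end Cfsg.Agent.Lib.Helper84.OHyp
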